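import Mathlib

/-! helper7: spreading out a basis of differentials of a smooth algebra chosen from a prescribed
family of elements, around a prime. -/

set_option linter.style.haveILetI false
set_option linter.unusedVariables false
set_option linter.unusedSectionVars false
set_option linter.overlappingInstances false

open KaehlerDifferential

namespace Groth.Agent.Helper7.JacEt

universe v w

/-- Over a smooth algebra, a family of elements whose differentials exhaust all differentials
contains, locally around any prime, a finite subfamily whose differentials form a basis. -/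
theorem exists_basis_away_of_mem {C : Type v} {B : Type w} [CommRing C] [CommRing B] [Algebra C B]
    [Algebra.Smooth C B] (q : Ideal B) [q.IsPrime] (s : Set B)
    (hs : ∀ b : B, ∃ j ∈ s, D C B b = D C B j) :
    ∃ (n : ℕ) (a : Fin n → B) (g : B), (∀ i, a i ∈ s) ∧ g ∉ q ∧
      ∃ bs : Module.Basis (Fin n) (Localization.Away g) Ω[Localization.Away g⁄C],
        ∀ i, bs i = D C (Localization.Away g) (algebraMap B (Localization.Away g) (a i)) := by
  haveI : Algebra.FormallySmooth C (Localization.AtPrime q) :=
    Algebra.FormallySmooth.comp C B (Localization.AtPrime q)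
  have hspan : Submodule.span (Localization.AtPrime q) (Set.range fun j : s =>
      D C (Localization.AtPrime q) (algebraMap B (Localization.AtPrime q) j)) = ⊤ := by
    have h0 := span_range_map_derivation_of_isLocalization C B (Localization.AtPrime q)
      q.primeCompl
    rw [eq_top_iff, ← h0]
    apply Submodule.span_mono
    rintro _ ⟨b, rfl⟩
    obtain ⟨j, hj, hbj⟩ := hs b
    refine ⟨⟨j, hj⟩, ?_⟩
    have := congrArg (KaehlerDifferential.map C C B (Localization.AtPrime q)) hbj
    simp only [KaehlerDifferential.map_D] at this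
    show D C (Localization.AtPrime q) (algebraMap B (Localization.AtPrime q) j) =
      KaehlerDifferential.map C C B (Localization.AtPrime q) (D C B b)
    rw [KaehlerDifferential.map_D]
    exact this.symm
  obtain ⟨κ, a, b, hb⟩ := Module.exists_basis_of_span_of_flat _ hspan
  let e : (κ →₀ B) →ₗ[B] Ω[B⁄C] :=
    Finsupp.linearCombination B fun i : κ ↦ D C B (a i)
  let l₁ : (κ →₀ B) →ₗ[B] (κ →₀ Localization.AtPrime q) :=
    Finsupp.mapRange.linearMap (Algebra.linearMap B (Localization.AtPrime q))
  let l₂ : Ω[B⁄C] →ₗ[B] Ω[Localization.AtPrime q⁄C] := map C C B (Localization.AtPrime q)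
  let eₚ : (κ →₀ Localization.AtPrime q) →ₗ[Localization.AtPrime q] Ω[Localization.AtPrime q⁄C] :=
    IsLocalizedModule.mapExtendScalars q.primeCompl l₁ l₂ (Localization.AtPrime q) e
  have : eₚ = b.repr.symm := by
    ext i
    trans IsLocalizedModule.map q.primeCompl l₁ l₂ e <| l₁ <| Finsupp.single i 1
    · simp [eₚ, -IsLocalizedModule.map_apply, l₁]
    · simp [l₂, e, hb]
  have heₚ : Function.Bijective eₚ := this ▸ b.repr.symm.bijective
  have : Finite κ := Module.Finite.finite_basis b
  obtain ⟨g, hg, h⟩ := Module.FinitePresentation.exists_notMem_bijective e q l₁ l₂ heₚ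
  let l₁ₜ : (κ →₀ B) →ₗ[B] (κ →₀ Localization.Away g) :=
    Finsupp.mapRange.linearMap (Algebra.linearMap B _)
  let l₂ₜ : Ω[B⁄C] →ₗ[B] Ω[Localization.Away g⁄C] :=
    map C C B (Localization.Away g)
  rw [← IsLocalizedModule.map_bijective_iff_localizedModuleMap_bijective l₁ₜ l₂ₜ] at h
  let eₜ' : (κ →₀ Localization.Away g) →ₗ[Localization.Away g] Ω[Localization.Away g⁄C] :=
    IsLocalizedModule.mapExtendScalars (Submonoid.powers g) l₁ₜ l₂ₜ (Localization.Away g) e
  let bs0 : Module.Basis κ (Localization.Away g) Ω[Localization.Away g⁄C] :=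
    .ofRepr (LinearEquiv.ofBijective eₜ' h).symm
  have hbs0 : ∀ i, bs0 i = D C (Localization.Away g) (algebraMap B (Localization.Away g) (a i)) := by
    intro i
    simp +zetaDelta [IsLocalizedModule.map_linearCombination]
  let eκ : κ ≃ Fin (Nat.card κ) := Finite.equivFin κ
  refine ⟨Nat.card κ, fun i => (a (eκ.symm i) : B), g, fun i => (a (eκ.symm i)).2, hg,
    bs0.reindex eκ, fun i => ?_⟩
  rw [Module.Basis.reindex_apply, hbs0]

end Groth.Agent.Helper7.JacEt
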