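import Mathlib
import Groth.Agent.Lib.Helper7.JacEt.Spread

/-! helper7: Jacobian criterion, the quotient of a formally smooth algebra by elements whose
differentials form a basis is formally etale. -/

set_option linter.style.haveILetI false
set_option linter.unusedVariables false
set_option linter.unusedSectionVars false
set_option linter.overlappingInstances false

open KaehlerDifferential TensorProduct

namespace Groth.Agent.Helper7.JacEt

universe v w

/-- Jacobian criterion: the quotient of a formally smooth algebra by elements whose differentials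
form a basis is formally etale. -/
theorem formallyEtale_quotient_of_basis {C : Type v} {P : Type w} [CommRing C] [CommRing P]
    [Algebra C P] [Algebra.FormallySmooth C P] {ι : Type*} [Finite ι] (a : ι → P)
    (bs : Module.Basis ι P Ω[P⁄C]) (hbs : ∀ i, bs i = D C P (a i))
    (E : Type w) [CommRing E] [Algebra P E] [Algebra C E] [IsScalarTower C P E]
    (hsurj : Function.Surjective (algebraMap P E))
    (hker : RingHom.ker (algebraMap P E) = Ideal.span (Set.range a)) :
    Algebra.FormallyEtale C E := by
  classical
  letI : Fintype ι := Fintype.ofFinite ι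
  let Ext : Algebra.Extension C E := ⟨P, Function.surjInv hsurj, Function.surjInv_eq hsurj⟩
  haveI : Algebra.FormallySmooth C Ext.Ring := ‹Algebra.FormallySmooth C P›
  have hmem : ∀ i, a i ∈ Ext.ker := fun i => by
    show a i ∈ RingHom.ker (algebraMap P E)
    rw [hker]; exact Ideal.subset_span ⟨i, rfl⟩
  let c : ι → Ext.Cotangent := fun i => Algebra.Extension.Cotangent.mk ⟨a i, hmem i⟩
  let bE : Module.Basis ι E (E ⊗[P] Ω[P⁄C]) := bs.baseChange E
  have hcc : ∀ i, Ext.cotangentComplex (c i) = bE i := by
    intro i
    show Ext.cotangentComplex (Algebra.Extension.Cotangent.mk ⟨a i, hmem i⟩) = bE i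
    rw [Algebra.Extension.cotangentComplex_mk, Module.Basis.baseChange_apply, hbs]
  have hspanC : Submodule.span E (Set.range c) = ⊤ := by
    rw [eq_top_iff]
    rintro x -
    obtain ⟨⟨k, hk⟩, rfl⟩ := Algebra.Extension.Cotangent.mk_surjective x
    have hk' : k ∈ Ideal.span (Set.range a) := by rw [← hker]; exact hk
    obtain ⟨p, hp⟩ := (Ideal.mem_span_range_iff_exists_fun).mp hk'
    have hsum : (⟨k, hk⟩ : Ext.ker) = ∑ i, p i • (⟨a i, hmem i⟩ : Ext.ker) := by
      apply Subtype.ext
      rw [Submodule.coe_sum]
      simp only [Submodule.coe_smul, smul_eq_mul]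
      exact hp.symm
    rw [hsum, map_sum]
    refine Submodule.sum_mem _ fun i _ => ?_
    rw [map_smul, ← algebraMap_smul E (p i)]
    exact Submodule.smul_mem _ _ (Submodule.subset_span ⟨i, rfl⟩)
  have hsm : Algebra.FormallySmooth C E := by
    rw [Algebra.Extension.formallySmooth_iff_split_injection Ext]
    refine ⟨bE.constr E c, ?_⟩
    apply LinearMap.ext_on hspanC
    rintro _ ⟨i, rfl⟩
    rw [LinearMap.comp_apply, hcc, Module.Basis.constr_basis, LinearMap.id_apply]
  have hunr : Algebra.FormallyUnramified C E := by
    rw [Algebra.formallyUnramified_iff]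
    have hsurjcc : Function.Surjective Ext.cotangentComplex := by
      rw [← LinearMap.range_eq_top, eq_top_iff, ← bE.span_eq]
      apply Submodule.span_le.mpr
      rintro _ ⟨i, rfl⟩
      exact ⟨c i, hcc i⟩
    refine ⟨fun ω₁ ω₂ => ?_⟩
    have h0 : ∀ ω : Ω[E⁄C], ω = 0 := by
      intro ω
      obtain ⟨y, rfl⟩ := Ext.toKaehler_surjective ω
      obtain ⟨z, rfl⟩ := hsurjcc y
      exact (Ext.exact_cotangentComplex_toKaehler _).mpr ⟨z, rfl⟩
    rw [h0 ω₁, h0 ω₂]
  exact Algebra.FormallyEtale.iff_formallyUnramified_and_formallySmooth.mpr ⟨hunr, hsm⟩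

end Groth.Agent.Helper7.JacEt
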