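import Mathlib
import Groth.Agent.Lib.Helper7.JacEt.Quot

/-! helper7: a quotient of a smooth algebra onto which the base surjects is locally cut out
inside an etale quotient (Jacobian criterion). -/

set_option linter.style.haveILetI false
set_option linter.unusedVariables false
set_option linter.unusedSectionVars false
set_option linter.overlappingInstances false

open KaehlerDifferential TensorProduct

namespace Groth.Agent.Helper7.JacEt

universe v w

/-- A quotient of a smooth algebra onto which the base surjects is, locally, cut out inside an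
etale quotient. -/
theorem main (C : Type v) (B : Type w) [CommRing C] [CommRing B] [Algebra C B]
    [Algebra.Smooth C B] (J : Ideal B)
    (hsurj : Function.Surjective ((Ideal.Quotient.mk J).comp (algebraMap C B)))
    (x : PrimeSpectrum (B ⧸ J)) :
    ∃ f : B, Ideal.Quotient.mk J f ∉ x.asIdeal ∧
      ∃ J₀ : Ideal (Localization.Away f), J₀ ≤ J.map (algebraMap B (Localization.Away f)) ∧
        ((Ideal.Quotient.mk J₀).comp
          ((algebraMap B (Localization.Away f)).comp (algebraMap C B))).Etale := by
  let q : Ideal B := x.asIdeal.comap (Ideal.Quotient.mk J)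
  haveI : q.IsPrime := Ideal.IsPrime.comap _
  have hs : ∀ b : B, ∃ j ∈ (J : Set B), D C B b = D C B j := by
    intro b
    obtain ⟨c, hc⟩ := hsurj (Ideal.Quotient.mk J b)
    refine ⟨b - algebraMap C B c, ?_, ?_⟩
    · show b - algebraMap C B c ∈ J
      rw [← Ideal.Quotient.eq]
      exact hc.symm
    · rw [map_sub, Derivation.map_algebraMap, sub_zero]
  obtain ⟨n, a, g, ha, hg, bs, hbs⟩ := exists_basis_away_of_mem (C := C) q (J : Set B) hs
  refine ⟨g, hg, Ideal.span (Set.range fun i => algebraMap B (Localization.Away g) (a i)), ?_, ?_⟩
  · rw [Ideal.span_le]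
    rintro _ ⟨i, rfl⟩
    exact Ideal.mem_map_of_mem _ (ha i)
  · set P := Localization.Away g with hP
    set J₀ : Ideal P := Ideal.span (Set.range fun i => algebraMap B P (a i)) with hJ₀
    set φ : C →+* P ⧸ J₀ :=
      (Ideal.Quotient.mk J₀).comp ((algebraMap B P).comp (algebraMap C B)) with hφ
    have hφeq : φ = algebraMap C (P ⧸ J₀) := by
      refine RingHom.ext fun c => ?_
      rw [IsScalarTower.algebraMap_apply C P (P ⧸ J₀), IsScalarTower.algebraMap_apply C B P]
      rfl
    haveI : Algebra.FormallySmooth C P := Algebra.FormallySmooth.comp C B P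
    haveI : Algebra.FormallyEtale C (P ⧸ J₀) :=
      formallyEtale_quotient_of_basis (fun i => algebraMap B P (a i)) bs hbs (P ⧸ J₀)
        Ideal.Quotient.mk_surjective (by
          show RingHom.ker (Ideal.Quotient.mk J₀) = _
          rw [Ideal.mk_ker])
    haveI : Algebra.FinitePresentation B P := IsLocalization.Away.finitePresentation g
    haveI : Algebra.FinitePresentation C P := Algebra.FinitePresentation.trans C B P
    haveI : Algebra.FinitePresentation P (P ⧸ J₀) :=
      Algebra.FinitePresentation.quotient (Submodule.fg_span (Set.finite_range _))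
    haveI : Algebra.FinitePresentation C (P ⧸ J₀) := Algebra.FinitePresentation.trans C P (P ⧸ J₀)
    have hE : Algebra.Etale C (P ⧸ J₀) := ⟨inferInstance, inferInstance⟩
    rw [hφeq]
    exact RingHom.etale_algebraMap.mpr hE

end Groth.Agent.Helper7.JacEt
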